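import Cfsg.Agent.S1687
import Cfsg.Agent.S1689
import Cfsg.Agent.Lib.Fi23Trans.Data

/-!
Certified facts about the orbit of length 3510 of the transposition centraliser in Fi23 (helper71).

* `gen_check`, `sec_spec`, `z_check`, `braid_check`, `odd_check`, `rep_check0`, `rep_check1`, `cover_points`
-/

set_option autoImplicit false
set_option maxRecDepth 100000

namespace Cfsg.Agent.Fi23Trans

open Cfsg.Agent.CosetEnum

/-- the coset of a point -/
noncomputable def sec (j : ℕ) : ℕ := lane 16 secTab j

/-- point plus one -/
noncomputable def lab (i : ℕ) : ℕ := lane 12 labTab i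

/-- the letter of a generator -/
def lt9 (k : ℕ) : ℕ := letMap.getD k 0

/-- one generator acts on the points as a letter of Fi22 -/
noncomputable def genOK (k : ℕ) : Bool :=
  Nat.blt (lt9 k) fi23h.k && (Nat.blt k fi22h.k &&
    force (fi23h.trace [lt9 k]) fun V => force (fi22h.trace [k]) fun W => (List.range 3510).all fun j =>
      Nat.beq (lane 16 V (sec j)) (sec (lane 13 W j)))

theorem gen_check : ((List.range 9).all genOK) = true := by decide +kernel

theorem sec_spec : ((List.range 3510).all fun j =>
    Nat.blt (sec j) 31671 && Nat.beq (lab (sec j)) (j + 1)) = true := by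
  decide +kernel

theorem hgens_letters : S1689.hgens.map (fi23Setup.wl fi23h) = [[0], [1], [2], [3], [4], [5], [6], [8], [9]] := by
  decide +kernel

theorem z_check : ((zWord.all fun a => Nat.blt a fi23h.k) && (Nat.beq (fi23h.tw zWord 0) 0 &&
    force (fi23h.trace zWord) fun V => ((List.range 3510).all fun j => Nat.beq (lane 16 V (sec j)) (sec j)) &&
      (List.range 31671).any fun i => !Nat.beq (lane 16 V i) i)) = true := by
  decide +kernel

/-- linked pairs of generators -/
def braidPairs : List (ℕ × ℕ) := [(0, 1), (1, 2), (2, 3), (3, 4), (4, 5), (5, 6), (3, 7), (7, 8)]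

theorem braid_check : (braidPairs.all fun p =>
    Nat.beq (fi23h.trace [lt9 p.1, lt9 p.2, lt9 p.1]) (fi23h.trace [lt9 p.2, lt9 p.1, lt9 p.2])) = true := by
  decide +kernel

theorem odd_check : (((oddWord.all fun k => Nat.blt k 9) &&
    Nat.beq (fi23h.trace (oddWord.map lt9)) (fi23h.trace [])) && Nat.beq oddWord.length 63) = true := by
  decide +kernel

/-- a transposition as a word -/
def dword (u : List ℕ) : List ℕ := u.reverse ++ zWord ++ u

/-- check for a representative -/
noncomputable def repOK (u : List ℕ) (O : OrbitData) (m : ℕ) : Bool :=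
  (u.all fun a => Nat.blt a fi23h.k) && (Nat.beq (fi23h.tw u 0) O.root &&
    (Nat.beq (fi23h.trace (Setup.wpow (zWord ++ dword u) m)) (fi23h.trace []) &&
      force (fi23h.trace (dword u)) fun V => force (fi23h.trace zWord) fun W =>
        (List.range 31671).any fun i => !Nat.beq (lane 16 V i) (lane 16 W i)))

theorem rep_check0 : repOK rep0 fi23h_orb0 3 = true := by decide +kernel

theorem rep_check1 : repOK rep1 fi23h_orb1 2 = true := by decide +kernel

theorem cover_points : (force fi23h_orb0.mask fun U => force fi23h_orb1.mask fun V =>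
    (List.range 31671).all fun i => Nat.beq i 0 || (Nat.beq (lane 16 U i) 1 || Nat.beq (lane 16 V i) 1)) = true := by
  decide +kernel

end Cfsg.Agent.Fi23Trans
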