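import Cfsg.Agent.S1697
import Cfsg.Agent.Lib.Fi22U62.Cover
import Cfsg.Agent.Lib.Fi23Trans.Tables

/-!
The centraliser of a transposition in Fi23 is a non-split double cover of Fi22 (helper71).

* `rho`, `rho_injective`, `phi`, `range_eq`, `z0`
* `isNonsplitDoubleCover`
-/

set_option autoImplicit false
set_option maxRecDepth 10000

namespace Cfsg.Agent.Fi23Trans

open Cfsg.Agent.CosetEnum Cfsg.Agent.CosetEnum.Data

/-- the permutation representation -/
noncomputable abbrev rho : fi23Setup.G →* Equiv.Perm (Fin fi23h.n) :=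
  Setup.hom S1689.table.gens S1689.table.letters S1689.table.perm S1689.table.rels

/-- the centraliser -/
abbrev Hs : Subgroup fi23Setup.G := fi23Setup.closureOf S1689.hgens

theorem sec_lt {j : ℕ} (hj : j < 3510) : sec j < 31671 ∧ lab (sec j) = j + 1 := by
  have h := List.all_eq_true.mp sec_spec j (List.mem_range.mpr hj)
  simpa only [Bool.and_eq_true, Nat.blt_eq, beq_iff] using h

/-- `σ` describes the effect of `g` on the points -/
def IsBlock (g : fi23Setup.G) (σ : Equiv.Perm (Fin fi22h.n)) : Prop :=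
  ∀ j : Fin fi22h.n, ∀ i : Fin fi23h.n, (i : ℕ) = sec j → (rho g i : ℕ) = sec (σ j)

theorem IsBlock.one : IsBlock 1 1 := fun j i h => by simpa using h

theorem IsBlock.mul {g h : fi23Setup.G} {σ τ : Equiv.Perm (Fin fi22h.n)} (hg : IsBlock g σ) (hh : IsBlock h τ) :
    IsBlock (g * h) (σ * τ) := fun j i e => by
  rw [map_mul, Equiv.Perm.mul_apply, Equiv.Perm.mul_apply]
  exact hg _ _ (hh j i e)

theorem IsBlock.unique {g : fi23Setup.G} {σ τ : Equiv.Perm (Fin fi22h.n)} (hg : IsBlock g σ) (hh : IsBlock g τ) :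
    σ = τ := by
  refine Equiv.ext fun j => Fin.ext ?_
  have hj : (j : ℕ) < 3510 := j.2
  have h1 := hg j ⟨sec j, (sec_lt hj).1⟩ rfl
  have h2 := hh j ⟨sec j, (sec_lt hj).1⟩ rfl
  have h3 := congrArg lab (h1.symm.trans h2)
  rw [(sec_lt (σ j).2).2, (sec_lt (τ j).2).2] at h3
  omega

theorem fi23_finite : Finite fi23Setup.G :=
  Nat.finite_of_card_ne_zero (by rw [S1697.main.2]; norm_num)

/-- the generators -/
noncomputable def hgen (k : ℕ) : fi23Setup.G := fi23Setup.el (lt9 k)

/-- the permutation of a generator -/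
noncomputable def gperm (k : ℕ) : Equiv.Perm (Fin fi22h.n) := Setup.perm fi22h S1687.table.perm k

theorem gen_spec {k : ℕ} (hk : k < 9) : lt9 k < fi23h.k ∧ k < fi22h.k ∧
    ∀ j < 3510, lane 16 (fi23h.trace [lt9 k]) (sec j) = sec (lane 13 (fi22h.trace [k]) j) := by
  have h := List.all_eq_true.mp gen_check k (List.mem_range.mpr hk)
  simpa only [genOK, force_eq, Bool.and_eq_true, Nat.blt_eq, List.all_eq_true, List.mem_range, beq_iff] using h

theorem lane_trace {w : List ℕ} (hw : ∀ a ∈ w, a < fi23h.k) (i : Fin fi23h.n) :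
    lane 16 (fi23h.trace w) i = fi23h.tw w i := by
  rw [Data.trace_eq S1689.table.perm _ hw]
  exact lane_pack S1689.table.perm.hB (fun x hx => self_lt_two_pow_of_lt
    (by have := S1689.table.perm.hlg; omega) (Data.tw_lt S1689.table.perm _ hw x hx))
    (lt_of_lt_of_le i.2 S1689.table.perm.hnN)

theorem isBlock_hgen {k : ℕ} (hk : k < 9) : IsBlock (hgen k) (gperm k) := by
  intro j i e
  obtain ⟨h1, h2, h3⟩ := gen_spec hk
  have h4 := h3 j j.2
  rw [← e, lane_trace (w := [lt9 k]) (by simpa using h1) i,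
    Fi22U62.lane_trace (w := [k]) (by simpa using h2) j] at h4
  rw [hgen, Setup.hom_el _ _ _ _ h1, Setup.perm_apply _ h1, gperm, Setup.perm_apply _ h2]
  exact h4

theorem mk_hgens {k : ℕ} (hk : k < 9) : PresentedGroup.mk fi23Setup.rels (S1689.hgens.getD k 1) = hgen k := by
  rw [Setup.mk_eq_ev S1689.table.gens S1689.table.letters,
    show fi23Setup.wl fi23h (S1689.hgens.getD k 1) = [lt9 k] from ?_]
  · show 1 * fi23Setup.el (lt9 k) = _
    rw [one_mul, hgen]
  · have h : ((S1689.hgens.map (fi23Setup.wl fi23h)).getD k [] : List ℕ) = [lt9 k] := by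
      rw [hgens_letters]
      interval_cases k <;> rfl
    rw [List.getD_eq_getElem _ _ (by rw [List.length_map]; exact hk), List.getElem_map] at h
    rw [List.getD_eq_getElem _ _ hk]
    exact h

theorem hgen_mem {k : ℕ} (hk : k < 9) : hgen k ∈ Hs := by
  rw [← mk_hgens hk]
  refine Subgroup.subset_closure ⟨_, ?_, rfl⟩
  show S1689.hgens.getD k 1 ∈ S1689.hgens
  rw [List.getD_eq_getElem _ _ hk]
  exact List.getElem_mem _

theorem Hs_eq_closure : Hs = Subgroup.closure (hgen '' {k | k < 9}) := by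
  apply le_antisymm
  · rw [Hs, Setup.closureOf, Subgroup.closure_le]
    rintro _ ⟨r, hr, rfl⟩
    obtain ⟨k, hk, rfl⟩ := List.mem_iff_getElem.mp hr
    refine Subgroup.subset_closure ⟨k, hk, ?_⟩
    rw [← mk_hgens (k := k) hk, List.getD_eq_getElem _ _ hk]
  · rw [Subgroup.closure_le]
    rintro _ ⟨k, hk, rfl⟩
    exact hgen_mem hk

theorem gperm_mem {k : ℕ} (hk : k < 9) : gperm k ∈ Fi22U62.rho.range :=
  ⟨fi22Setup.el k, Setup.hom_el _ _ _ _ (gen_spec hk).2.1⟩

theorem exists_block {g : fi23Setup.G} (hg : g ∈ Hs) : ∃ σ ∈ Fi22U62.rho.range, IsBlock g σ := by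
  rw [Hs_eq_closure] at hg
  induction hg using Subgroup.closure_induction with
  | mem g hg =>
    obtain ⟨k, hk, rfl⟩ := hg
    exact ⟨gperm k, gperm_mem hk, isBlock_hgen hk⟩
  | one => exact ⟨1, one_mem _, IsBlock.one⟩
  | mul x y _ _ hx hy => exact ⟨_, mul_mem hx.choose_spec.1 hy.choose_spec.1, hx.choose_spec.2.mul hy.choose_spec.2⟩
  | inv x _ hx =>
    have := fi23_finite
    have hpow : ∀ m : ℕ, ∃ σ ∈ Fi22U62.rho.range, IsBlock (x ^ m) σ := by
      intro m
      induction m with
      | zero => exact ⟨1, one_mem _, by rw [pow_zero]; exact IsBlock.one⟩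
      | succ m ih =>
        exact ⟨_, mul_mem ih.choose_spec.1 hx.choose_spec.1, by rw [pow_succ]; exact ih.choose_spec.2.mul hx.choose_spec.2⟩
    obtain ⟨m, hm⟩ : ∃ m : ℕ, x⁻¹ = x ^ m := ⟨orderOf x - 1, by
      rw [inv_eq_iff_mul_eq_one, ← pow_succ', Nat.sub_add_cancel (orderOf_pos x), pow_orderOf_eq_one]⟩
    rw [hm]
    exact hpow m

/-- the action of the centraliser on the points -/
noncomputable def phi : Hs →* Equiv.Perm (Fin fi22h.n) where
  toFun g := (exists_block g.2).choose
  map_one' := (exists_block (1 : Hs).2).choose_spec.2.unique IsBlock.one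
  map_mul' g h := (exists_block (g * h).2).choose_spec.2.unique
    ((exists_block g.2).choose_spec.2.mul (exists_block h.2).choose_spec.2)

theorem phi_gen {k : ℕ} (hk : k < 9) : phi ⟨_, hgen_mem hk⟩ = gperm k :=
  (exists_block (hgen_mem hk)).choose_spec.2.unique (isBlock_hgen hk)

theorem range_eq : phi.range = Fi22U62.rho.range := by
  refine le_antisymm ?_ ?_
  · rintro _ ⟨g, rfl⟩
    exact (exists_block g.2).choose_spec.1
  · rw [MonoidHom.range_eq_map, ← Setup.closure_el S1687.table.gens S1687.table.letters, MonoidHom.map_closure,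
      Subgroup.closure_le]
    rintro _ ⟨_, ⟨⟨a, ha⟩, rfl⟩, rfl⟩
    have h9 : a < 9 := ha
    exact ⟨_, (phi_gen h9).trans (Setup.hom_el _ _ _ _ ha).symm⟩

/-- the image is Fi22 -/
noncomputable def fi22EquivRange : fi22Setup.G ≃* Fi22U62.rho.range :=
  MonoidHom.ofInjective Fi22U62.rho_injective

theorem card_Hs : Nat.card Hs = 2 * 64561751654400 := by
  have h := Hs.index_mul_card
  rw [Setup.Table.index S1689.table, S1697.main.2, show fi23h.n = 31671 from rfl] at h
  omega

theorem card_ker : Nat.card phi.ker = 2 := by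
  have h := phi.ker.index_mul_card
  rw [Subgroup.index_ker, range_eq, ← Nat.card_congr fi22EquivRange.toEquiv, S1696.main.2, card_Hs] at h
  omega

theorem gperm_noncomm : gperm 0 * gperm 1 ≠ gperm 1 * gperm 0 := by
  intro hcomm
  have hk : (0 : ℕ) < fi22h.k ∧ 1 < fi22h.k := by decide +kernel
  have hex : ((List.range 3510).any fun i =>
      !Nat.beq (fi22h.act 0 (fi22h.act 1 i)) (fi22h.act 1 (fi22h.act 0 i))) = true := by decide +kernel
  obtain ⟨i, hi, hne⟩ := List.any_eq_true.mp hex
  have h2 := congrArg (fun π : Equiv.Perm (Fin fi22h.n) => ((π ⟨i, List.mem_range.mp hi⟩ : Fin fi22h.n) : ℕ)) hcomm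
  simp only [gperm, Equiv.Perm.mul_apply, Setup.perm_apply _ hk.1, Setup.perm_apply _ hk.2] at h2
  rw [h2, Bool.not_eq_true'] at hne
  exact Bool.false_ne_true (hne.symm.trans (beq_iff.mpr rfl))

theorem center_eq_bot_of_noncomm {G : Type*} [Group G] [IsSimpleGroup G] {x y : G} (h : x * y ≠ y * x) :
    Subgroup.center G = ⊥ :=
  (Subgroup.center G).normal_of_characteristic.eq_bot_or_eq_top.resolve_right fun htop => by
    have hy : y ∈ Subgroup.center G := by rw [htop]; exact Subgroup.mem_top y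
    exact h (Subgroup.mem_center_iff.mp hy x)

theorem center_range : Subgroup.center Fi22U62.rho.range = ⊥ := by
  obtain ⟨a, ha⟩ := gperm_mem (k := 0) (by norm_num)
  obtain ⟨b, hb⟩ := gperm_mem (k := 1) (by norm_num)
  have := S1696.main.1
  have : IsSimpleGroup Fi22U62.rho.range := fi22EquivRange.isSimpleGroup_congr.mp this
  refine center_eq_bot_of_noncomm (x := fi22EquivRange a) (y := fi22EquivRange b) fun h => gperm_noncomm ?_
  have h2 : ((fi22EquivRange a * fi22EquivRange b : Fi22U62.rho.range) : Equiv.Perm (Fin fi22h.n)) =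
      ((fi22EquivRange b * fi22EquivRange a : Fi22U62.rho.range) : Equiv.Perm (Fin fi22h.n)) := by rw [h]
  rw [← ha, ← hb]
  simpa only [Subgroup.coe_mul, fi22EquivRange, MonoidHom.ofInjective_apply] using h2

theorem center_eq_ker : Subgroup.center Hs = phi.ker := by
  apply le_antisymm
  · intro z hz
    have hz' : (⟨phi z, range_eq ▸ ⟨z, rfl⟩⟩ : Fi22U62.rho.range) ∈ Subgroup.center Fi22U62.rho.range := by
      rw [Subgroup.mem_center_iff]
      rintro ⟨x, hx⟩
      rw [← range_eq] at hx
      obtain ⟨y, rfl⟩ := hx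
      apply Subtype.ext
      show phi y * phi z = phi z * phi y
      rw [← map_mul, Subgroup.mem_center_iff.mp hz y, map_mul]
    rw [center_range, Subgroup.mem_bot] at hz'
    exact congrArg Subtype.val hz'
  · intro z hz
    rw [Subgroup.mem_center_iff]
    intro g
    by_cases h1 : z = 1
    · rw [h1, mul_one, one_mul]
    have hmem : g * z * g⁻¹ ∈ phi.ker := phi.normal_ker.conj_mem z hz g
    obtain ⟨x, y, hxy, hu⟩ := Nat.card_eq_two_iff.mp card_ker
    have key : ∀ a : phi.ker, a = 1 ∨ a = ⟨z, hz⟩ := by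
      intro a
      have hne : (⟨z, hz⟩ : phi.ker) ≠ 1 := fun h => h1 (congrArg Subtype.val h)
      have m : ∀ b : phi.ker, b = x ∨ b = y := fun b => by
        have : b ∈ ({x, y} : Set phi.ker) := hu.symm ▸ Set.mem_univ b
        simpa using this
      rcases m 1 with h | h <;> rcases m ⟨z, hz⟩ with h' | h' <;> rcases m a with ha | ha <;> simp_all
    rcases key ⟨_, hmem⟩ with h | h
    · exact absurd (conj_eq_one_iff.mp (congrArg Subtype.val h)) h1
    · calc g * z = g * z * g⁻¹ * g := by group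
        _ = z * g := by rw [show g * z * g⁻¹ = z from congrArg Subtype.val h]

/-- the base coset -/
noncomputable def pt0 : Fin fi23h.n := ⟨0, S1689.table.perm.hn⟩

theorem exists_coset_equiv : ∃ e : Fin fi23h.n ≃ fi23Setup.G ⧸ Hs, e pt0 = ((1 : fi23Setup.G) : fi23Setup.G ⧸ Hs) ∧
    ∀ g i, g • e i = e (rho g i) := by
  have T := S1689.table
  obtain ⟨ext, hsrc, hext⟩ := T.src
  exact Setup.exists_equiv T.gens T.letters T.check T.rels T.perm T.subs hsrc Hs rfl hext

theorem mem_Hs_iff (g : fi23Setup.G) : g ∈ Hs ↔ rho g pt0 = pt0 := by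
  obtain ⟨e, he0, he⟩ := exists_coset_equiv
  rw [← e.injective.eq_iff, ← he g pt0, he0]
  show _ ↔ ((g * 1 : fi23Setup.G) : fi23Setup.G ⧸ Hs) = ((1 : fi23Setup.G) : fi23Setup.G ⧸ Hs)
  rw [mul_one, QuotientGroup.eq]
  simp

theorem rho_injective : Function.Injective rho := by
  have := S1697.main.1
  rw [← MonoidHom.ker_eq_bot_iff]
  refine rho.normal_ker.eq_bot_or_eq_top.resolve_right fun h => ?_
  have h2 : rho (fi23Setup.el 7) = 1 := MonoidHom.mem_ker.mp (h ▸ Subgroup.mem_top _)
  rw [Setup.hom_el _ _ _ _ (show 7 < fi23h.k by decide +kernel)] at h2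
  have h3 := congrArg (fun π : Equiv.Perm (Fin fi23h.n) => ((π pt0 : Fin fi23h.n) : ℕ)) h2
  simp only [Setup.perm_apply _ (show 7 < fi23h.k by decide +kernel), Equiv.Perm.one_apply] at h3
  revert h3
  decide +kernel

/-- evaluation of a word -/
theorem rho_ev : ∀ w : List ℕ, (∀ a ∈ w, a < fi23h.k) →
    rho (ev fi23Setup.el w) = ev (Setup.perm fi23h S1689.table.perm) w
  | [], _ => map_one rho
  | a :: v, h => by
    show rho (ev fi23Setup.el v * fi23Setup.el a) = ev _ v * Setup.perm fi23h S1689.table.perm a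
    rw [map_mul, rho_ev v (fun b hb => h b (List.mem_cons_of_mem a hb)),
      Setup.hom_el _ _ _ _ (h a List.mem_cons_self)]

theorem eq_of_trace {u v : List ℕ} (hu : ∀ a ∈ u, a < fi23h.k) (hv : ∀ a ∈ v, a < fi23h.k)
    (h : fi23h.trace u = fi23h.trace v) : ev fi23Setup.el u = ev fi23Setup.el v := by
  apply rho_injective
  rw [rho_ev _ hu, rho_ev _ hv]
  refine Equiv.ext fun i => Fin.ext ?_
  rw [Setup.ev_perm _ _ hu, Setup.ev_perm _ _ hv, ← lane_trace hu, ← lane_trace hv, h]

/-- the transposition of the base coset -/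
noncomputable def z0 : fi23Setup.G := ev fi23Setup.el zWord

theorem zWord_lt : ∀ a ∈ zWord, a < fi23h.k := by
  have h := z_check
  simp only [Bool.and_eq_true, List.all_eq_true, Nat.blt_eq] at h
  exact h.1

theorem z0_mem : z0 ∈ Hs := by
  rw [mem_Hs_iff, z0, rho_ev _ zWord_lt]
  refine Fin.ext ((Setup.ev_perm _ _ zWord_lt _).trans ?_)
  have h := z_check
  simp only [Bool.and_eq_true, beq_iff] at h
  exact h.2.1

theorem z0_ne : z0 ≠ 1 := by
  intro h1
  have h := z_check
  simp only [force_eq, Bool.and_eq_true, List.any_eq_true, Bool.not_eq_true'] at h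
  obtain ⟨i, hi, hne⟩ := h.2.2.2
  have hin : i < fi23h.n := List.mem_range.mp hi
  have h3 := congrArg (fun g => ((rho g ⟨i, hin⟩ : Fin fi23h.n) : ℕ)) h1
  simp only [z0, rho_ev _ zWord_lt, map_one, Equiv.Perm.one_apply, Setup.ev_perm _ _ zWord_lt] at h3
  rw [lane_trace zWord_lt ⟨i, hin⟩, h3] at hne
  exact Bool.false_ne_true (hne.symm.trans (beq_iff.mpr rfl))

theorem z0_comm {g : fi23Setup.G} (hg : g ∈ Hs) : g * z0 = z0 * g := by
  have hc : (⟨z0, z0_mem⟩ : Hs) ∈ Subgroup.center Hs := by
    rw [center_eq_ker, MonoidHom.mem_ker]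
    refine (exists_block z0_mem).choose_spec.2.unique ?_
    intro j i e
    have h := z_check
    simp only [force_eq, Bool.and_eq_true, List.all_eq_true, beq_iff, List.mem_range] at h
    have h2 := h.2.2.1 j j.2
    rw [← e, lane_trace zWord_lt i] at h2
    rw [Equiv.Perm.one_apply, ← e, z0, rho_ev _ zWord_lt, Setup.ev_perm _ _ zWord_lt]
    exact h2
  exact congrArg Subtype.val (Subgroup.mem_center_iff.mp hc ⟨g, hg⟩)

/-- the generators as elements of the centraliser -/
noncomputable def hel (k : ℕ) : Hs := if hk : k < 9 then ⟨_, hgen_mem hk⟩ else 1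

theorem val_ev_hel : ∀ w : List ℕ, (∀ k ∈ w, k < 9) →
    ((ev hel w : Hs) : fi23Setup.G) = ev fi23Setup.el (w.map lt9)
  | [], _ => rfl
  | k :: v, h => by
    show ((ev hel v : Hs) : fi23Setup.G) * (hel k : fi23Setup.G) = ev fi23Setup.el (v.map lt9) * fi23Setup.el (lt9 k)
    rw [val_ev_hel v (fun b hb => h b (List.mem_cons_of_mem k hb)), hel, dif_pos (h k List.mem_cons_self)]
    rfl

theorem hom_eq_one (χ : Hs →* Multiplicative (ZMod 2)) : χ = 1 := by
  have hbr : ∀ a b : Multiplicative (ZMod 2), a * b * a = b * a * b → a = b := by decide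
  have braid : ∀ p ∈ braidPairs, χ (hel p.1) = χ (hel p.2) := by
    intro p hp
    have h := List.all_eq_true.mp braid_check p hp
    simp only [beq_iff] at h
    have hlt : p.1 < 9 ∧ p.2 < 9 := by revert p; decide
    obtain ⟨a, b⟩ := p
    have hw1 : ∀ k ∈ [a, b, a], k < 9 := by simp [hlt.1, hlt.2]
    have hw2 : ∀ k ∈ [b, a, b], k < 9 := by simp [hlt.1, hlt.2]
    have e2 : ev hel [a, b, a] = ev hel [b, a, b] := Subtype.ext (by
      rw [val_ev_hel _ hw1, val_ev_hel _ hw2]
      exact eq_of_trace (by simp [(gen_spec hlt.1).1, (gen_spec hlt.2).1])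
        (by simp [(gen_spec hlt.1).1, (gen_spec hlt.2).1]) h)
    simp only [ev, one_mul] at e2
    have e3 := congrArg χ e2
    simp only [map_mul] at e3
    exact hbr _ _ e3
  simp only [braidPairs, List.forall_mem_cons, List.not_mem_nil, IsEmpty.forall_iff, implies_true, and_true] at braid
  obtain ⟨b01, b12, b23, b34, b45, b56, b37, b78⟩ := braid
  have hall : ∀ k < 9, χ (hel k) = χ (hel 0) := by
    intro k hk
    interval_cases k <;> simp_all
  have ho := odd_check
  simp only [Bool.and_eq_true, List.all_eq_true, Nat.blt_eq, beq_iff] at ho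
  have hrel : ev hel oddWord = 1 := Subtype.ext (by
    rw [val_ev_hel _ ho.1.1]
    refine (eq_of_trace ?_ (by simp) ho.1.2).trans rfl
    intro a ha
    obtain ⟨k, hk, rfl⟩ := List.mem_map.mp ha
    exact (gen_spec (ho.1.1 k hk)).1)
  have hχ : ∀ w : List ℕ, (∀ k ∈ w, k < 9) → χ (ev hel w) = χ (hel 0) ^ w.length := by
    intro w
    induction w with
    | nil => intro _; simp [ev]
    | cons k v ih =>
      intro hw
      show χ (ev hel v * hel k) = _
      rw [map_mul, ih (fun b hb => hw b (List.mem_cons_of_mem k hb)), hall k (hw k List.mem_cons_self),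
        List.length_cons, pow_succ]
  have h0 : χ (hel 0) = 1 := by
    have := hχ oddWord ho.1.1
    rw [hrel, map_one, ho.2] at this
    revert this
    generalize χ (hel 0) = a
    revert a
    decide
  refine MonoidHom.ext fun x => ?_
  obtain ⟨g, hg⟩ := x
  show χ ⟨g, hg⟩ = 1
  have hg' := hg
  rw [Hs_eq_closure] at hg'
  induction hg' using Subgroup.closure_induction with
  | mem g hgk =>
    obtain ⟨k, hk, rfl⟩ := hgk
    have e : (⟨hgen k, hg⟩ : Hs) = hel k := by
      apply Subtype.ext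
      rw [hel, dif_pos (show k < 9 from hk)]
    rw [e, hall k hk, h0]
  | one => exact map_one χ
  | mul x y hx hy ihx ihy =>
    have hxH : x ∈ Hs := Hs_eq_closure ▸ hx
    have hyH : y ∈ Hs := Hs_eq_closure ▸ hy
    exact (map_mul χ ⟨x, hxH⟩ ⟨y, hyH⟩).trans (by rw [ihx hxH, ihy hyH, one_mul])
  | inv x hx ihx =>
    have hxH : x ∈ Hs := Hs_eq_closure ▸ hx
    exact (map_inv χ ⟨x, hxH⟩).trans (by rw [ihx hxH, inv_one])

/-- the centraliser is a non-split double cover -/
theorem isNonsplitDoubleCover : Cfsg.IsNonsplitDoubleCover Hs fi22Setup.G := by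
  refine ⟨by rw [center_eq_ker]; exact card_ker, ⟨?_⟩, fun L hL => ?_⟩
  · exact ((QuotientGroup.quotientMulEquivOfEq center_eq_ker).trans
      (QuotientGroup.quotientKerEquivRange phi)).trans
      ((MulEquiv.subgroupCongr range_eq).trans fi22EquivRange.symm)
  · have hidx : L.index = 2 := by
      rw [hL.index_eq_card, center_eq_ker, card_ker]
    have := Subgroup.normal_of_index_eq_two hidx
    have : Fact (Nat.Prime 2) := ⟨Nat.prime_two⟩
    have hc : Nat.card (Hs ⧸ L) = 2 := hidx
    let E : Hs ⧸ L ≃* Multiplicative (ZMod 2) := mulEquivOfPrimeCardEq hc (by simp)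
    have h1 := hom_eq_one (E.toMonoidHom.comp (QuotientGroup.mk' L))
    have : Subsingleton (Hs ⧸ L) := ⟨fun a b => E.injective (by
      obtain ⟨a, rfl⟩ := QuotientGroup.mk'_surjective L a
      obtain ⟨b, rfl⟩ := QuotientGroup.mk'_surjective L b
      have ha := DFunLike.congr_fun h1 a
      have hb := DFunLike.congr_fun h1 b
      exact ha.trans hb.symm)⟩
    rw [Nat.card_of_subsingleton (1 : Hs ⧸ L)] at hc
    omega

end Cfsg.Agent.Fi23Trans
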