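import Cfsg.Agent.Lib.Fi22U62.Transpositions
import Cfsg.Agent.Lib.Fi23Trans.Cover

/-!
The 31671 transpositions of Fi23 (helper71).

* `conj_cases`, `centralizer_z0`
* `isThreeTranspositionClass`, `card_classD`, `cover_centralizer`
-/

set_option autoImplicit false
set_option maxRecDepth 10000

namespace Cfsg.Agent.Fi23Trans

open Cfsg.Agent.CosetEnum Cfsg.Agent.CosetEnum.Data

theorem inv_check : ((List.range 10).all fun a =>
    Nat.beq (fi23h.trace [a, a]) (fi23h.trace [])) = true := by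
  decide +kernel

theorem ev_inv : ∀ (w : List ℕ), (∀ a ∈ w, a < fi23h.k) →
    ev fi23Setup.el w.reverse = (ev fi23Setup.el w)⁻¹ := by
  intro w
  induction w with
  | nil => intro _; simp [ev]
  | cons a v ih =>
    intro hw
    rw [List.reverse_cons, ev_append, ih (fun b hb => hw b (List.mem_cons_of_mem a hb))]
    show (1 * fi23Setup.el a) * (ev fi23Setup.el v)⁻¹ = (ev fi23Setup.el v * fi23Setup.el a)⁻¹
    rw [mul_inv_rev, one_mul]
    congr 1
    refine eq_inv_of_mul_eq_one_left ?_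
    have h := List.all_eq_true.mp inv_check a (List.mem_range.mpr (hw a List.mem_cons_self))
    have h2 := eq_of_trace (by simp [hw a List.mem_cons_self]) (by simp) (beq_iff.mp h)
    simpa [ev] using h2

theorem orbit_rep {O : OrbitData} (hO : fi23h.reachOK O = true)
    (hw : O.words = S1689.hgens.map (fi23Setup.wl fi23h)) {i : ℕ} (hi : i ∈ Data.maskSet fi23h O) :
    ∃ h ∈ Hs, ∀ r : Fin fi23h.n, (r : ℕ) = O.root → (rho h r : ℕ) = i := by
  obtain ⟨-, -, hind⟩ := Data.orbit_reach S1689.table.perm hO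
  refine hind (P := fun j => ∃ h ∈ Hs, ∀ r : Fin fi23h.n, (r : ℕ) = O.root → (rho h r : ℕ) = j)
    ⟨1, one_mem _, fun r hr => by simpa using hr⟩ ?_ i hi
  rintro w hw' j hj ⟨h, hh, hr⟩
  rw [hw, hgens_letters] at hw'
  obtain ⟨k, hk, rfl⟩ : ∃ k < 9, w = [lt9 k] := by
    simp only [List.mem_cons, List.not_mem_nil, or_false] at hw'
    rcases hw' with rfl | rfl | rfl | rfl | rfl | rfl | rfl | rfl | rfl
    exacts [⟨0, by norm_num, rfl⟩, ⟨1, by norm_num, rfl⟩, ⟨2, by norm_num, rfl⟩, ⟨3, by norm_num, rfl⟩,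
      ⟨4, by norm_num, rfl⟩, ⟨5, by norm_num, rfl⟩, ⟨6, by norm_num, rfl⟩, ⟨7, by norm_num, rfl⟩,
      ⟨8, by norm_num, rfl⟩]
  refine ⟨hgen k * h, mul_mem (hgen_mem hk) hh, fun r hr' => ?_⟩
  rw [map_mul, Equiv.Perm.mul_apply, hgen, Setup.hom_el _ _ _ _ (gen_spec hk).1,
    Setup.perm_apply _ (gen_spec hk).1, hr r hr']
  rfl

theorem conj_cases {g : fi23Setup.G} (hg : g ∉ Hs) : g * z0 * g⁻¹ ≠ z0 ∧
    ((z0 * (g * z0 * g⁻¹)) ^ 2 = 1 ∨ (z0 * (g * z0 * g⁻¹)) ^ 3 = 1) := by
  have main : ∀ (u : List ℕ) (O : OrbitData) (m : ℕ), repOK u O m = true → fi23h.reachOK O = true →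
      O.words = S1689.hgens.map (fi23Setup.wl fi23h) → (rho g pt0 : ℕ) ∈ Data.maskSet fi23h O →
      g * z0 * g⁻¹ ≠ z0 ∧ (z0 * (g * z0 * g⁻¹)) ^ m = 1 := by
    intro u O m hu hO hw hi
    simp only [repOK, force_eq, Bool.and_eq_true, List.all_eq_true, List.any_eq_true, Nat.blt_eq, beq_iff,
      Bool.not_eq_true'] at hu
    obtain ⟨hlt, hroot, hpow, hne⟩ := hu
    obtain ⟨h, hh, hr⟩ := orbit_rep hO hw hi
    set k := ev fi23Setup.el u
    have hk0 : (rho k pt0 : ℕ) = O.root := by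
      rw [rho_ev u hlt, Setup.ev_perm _ _ hlt]; exact hroot
    have hmem : (h * k)⁻¹ * g ∈ Hs := by
      rw [mem_Hs_iff, map_mul, map_inv, Equiv.Perm.mul_apply, Equiv.Perm.inv_eq_iff_eq, map_mul,
        Equiv.Perm.mul_apply]
      exact Fin.ext (hr _ hk0).symm
    obtain ⟨y, hy, rfl⟩ : ∃ y ∈ Hs, g = h * k * y := ⟨(h * k)⁻¹ * g, hmem, by group⟩
    have hconj : h * k * y * z0 * (h * k * y)⁻¹ = h * (k * z0 * k⁻¹) * h⁻¹ := by
      calc _ = h * k * (y * z0) * (h * k * y)⁻¹ := by group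
        _ = h * k * (z0 * y) * (h * k * y)⁻¹ := by rw [z0_comm hy]
        _ = _ := by group
    have hd : k * z0 * k⁻¹ = ev fi23Setup.el (dword u) := by
      rw [dword, ev_append, ev_append, ev_inv u hlt, z0, mul_assoc]
    have hdlt : ∀ a ∈ dword u, a < fi23h.k := by
      simp only [dword, List.mem_append, List.mem_reverse]
      rintro a ((ha | ha) | ha)
      · exact hlt a ha
      · exact zWord_lt a ha
      · exact hlt a ha
    have hz : h * z0 * h⁻¹ = z0 := by rw [z0_comm hh]; group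
    rw [hconj]
    constructor
    · intro heq
      have heq' : k * z0 * k⁻¹ = z0 := by
        have := congrArg (fun x => h⁻¹ * x * h) (heq.trans hz.symm)
        simpa [mul_assoc] using this
      rw [hd, z0] at heq'
      obtain ⟨i, hi, hne'⟩ := hne
      have hin : i < fi23h.n := List.mem_range.mp hi
      have h3 := congrArg (fun x => ((rho x ⟨i, hin⟩ : Fin fi23h.n) : ℕ)) heq'
      simp only [rho_ev _ hdlt, rho_ev _ zWord_lt, Setup.ev_perm _ _ hdlt, Setup.ev_perm _ _ zWord_lt] at h3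
      rw [lane_trace hdlt ⟨i, hin⟩, lane_trace zWord_lt ⟨i, hin⟩, h3] at hne'
      exact Bool.false_ne_true (hne'.symm.trans (beq_iff.mpr rfl))
    · have hall : ∀ a ∈ Setup.wpow (zWord ++ dword u) m, a < fi23h.k := by
        have hone : ∀ a ∈ zWord ++ dword u, a < fi23h.k := fun a ha =>
          (List.mem_append.mp ha).elim (zWord_lt a) (hdlt a)
        clear hpow
        induction m with
        | zero => simp [Setup.wpow]
        | succ m ih => exact fun a ha => (List.mem_append.mp ha).elim (hone a) (ih a)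
      have hp : (k * z0 * k⁻¹ * z0) ^ m = 1 := by
        rw [hd, show ev fi23Setup.el (dword u) * z0 = ev fi23Setup.el (zWord ++ dword u) by rw [ev_append, z0],
          ← Setup.ev_wpow, eq_of_trace hall (by simp) hpow]
        rfl
      calc (z0 * (h * (k * z0 * k⁻¹) * h⁻¹)) ^ m
          = (h * (z0 * (k * z0 * k⁻¹)) * h⁻¹) ^ m := by
            rw [show h * (z0 * (k * z0 * k⁻¹)) * h⁻¹ = (h * z0 * h⁻¹) * (h * (k * z0 * k⁻¹) * h⁻¹) by group, hz]
        _ = h * (z0 * (k * z0 * k⁻¹)) ^ m * h⁻¹ := conj_pow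
        _ = 1 := by
            rw [show z0 * (k * z0 * k⁻¹) = z0 * (k * z0 * k⁻¹ * z0) * z0⁻¹ by group, conj_pow, hp]
            group
  have hne : (rho g pt0 : ℕ) ≠ 0 := fun h0 => hg ((mem_Hs_iff g).mpr (Fin.ext h0))
  have hc := cover_points
  simp only [force_eq, List.all_eq_true] at hc
  have hc := hc _ (List.mem_range.mpr (rho g pt0).2)
  simp only [Bool.or_eq_true, beq_iff] at hc
  have h0 := fi23h_orb0_check
  have h1 := fi23h_orb1_check
  simp only [Bool.and_eq_true] at h0 h1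
  rcases hc with hc | hc | hc
  · exact absurd hc hne
  · obtain ⟨a, b⟩ := main rep0 fi23h_orb0 3 rep_check0 h0.1 (by decide +kernel) ⟨(rho g pt0).2, hc⟩
    exact ⟨a, Or.inr b⟩
  · obtain ⟨a, b⟩ := main rep1 fi23h_orb1 2 rep_check1 h1.1 (by decide +kernel) ⟨(rho g pt0).2, hc⟩
    exact ⟨a, Or.inl b⟩

theorem centralizer_z0 : Subgroup.centralizer ({z0} : Set fi23Setup.G) = Hs := by
  ext g
  rw [Subgroup.mem_centralizer_singleton_iff]
  constructor
  · intro h
    by_contra hg
    exact (conj_cases hg).1 (by rw [h]; group)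
  · exact fun h => z0_comm h

theorem z0_sq : z0 * z0 = 1 := by
  have h : zWord.reverse = zWord := by decide +kernel
  have := ev_inv zWord zWord_lt
  rw [h] at this
  exact mul_eq_one_iff_eq_inv.mpr this

/-- the class -/
def classD : Set fi23Setup.G := conjugatesOf z0

theorem isThreeTranspositionClass : Cfsg.IsThreeTranspositionClass classD := by
  have ho : orderOf z0 = 2 := orderOf_eq_prime (by rw [pow_two, z0_sq]) z0_ne
  have hform : ∀ d ∈ classD, ∃ g, d = g * z0 * g⁻¹ := by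
    intro d hd
    obtain ⟨g, hg⟩ := isConj_iff.mp hd
    exact ⟨g, hg.symm⟩
  refine ⟨⟨fun d hd => ?_, fun d hd e he => ?_⟩, ⟨z0, mem_conjugatesOf_self, rfl⟩, ?_⟩
  · obtain ⟨g, rfl⟩ := hform d hd
    rw [← ho]
    exact (MulAut.conj g).orderOf_eq z0
  · obtain ⟨g, rfl⟩ := hform d hd
    obtain ⟨f, rfl⟩ := hform e he
    have key : ∀ m : ℕ, (z0 * (g⁻¹ * f * z0 * (g⁻¹ * f)⁻¹)) ^ m = 1 →
        (g * z0 * g⁻¹ * (f * z0 * f⁻¹)) ^ m = 1 := fun m hm => by
      rw [show g * z0 * g⁻¹ * (f * z0 * f⁻¹) = g * (z0 * (g⁻¹ * f * z0 * (g⁻¹ * f)⁻¹)) * g⁻¹ by group, conj_pow, hm]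
      group
    by_cases h : g⁻¹ * f ∈ Hs
    · left
      apply key
      rw [z0_comm h, mul_assoc z0, mul_inv_cancel, mul_one, z0_sq, one_pow]
    · exact (conj_cases h).2.imp (key 2) (key 3)
  · have := S1697.main.1
    have hn : (Subgroup.closure classD).Normal := by
      have : classD = Group.conjugatesOfSet {z0} := by
        simp [classD, Group.conjugatesOfSet]
      rw [this]
      exact Subgroup.normalClosure_normal
    refine hn.eq_bot_or_eq_top.resolve_left fun hb => z0_ne ?_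
    have : z0 ∈ Subgroup.closure classD := Subgroup.subset_closure mem_conjugatesOf_self
    rw [hb] at this
    exact this

theorem card_classD : Nat.card classD = 31671 := by
  let f : fi23Setup.G ⧸ Hs → classD := Quotient.lift
    (fun g => (⟨g * z0 * g⁻¹, isConj_iff.mpr ⟨g, rfl⟩⟩ : classD)) (by
      intro g g' h
      have hm : g⁻¹ * g' ∈ Hs := QuotientGroup.leftRel_apply.mp h
      apply Subtype.ext
      show g * z0 * g⁻¹ = g' * z0 * g'⁻¹
      calc g * z0 * g⁻¹ = g * (g⁻¹ * g' * z0) * g'⁻¹ := by rw [z0_comm hm]; group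
        _ = _ := by group)
  have hf : Function.Bijective f := by
    constructor
    · intro a b
      induction a using QuotientGroup.induction_on with | H g => ?_
      induction b using QuotientGroup.induction_on with | H g' => ?_
      intro h
      have h' : g * z0 * g⁻¹ = g' * z0 * g'⁻¹ := congrArg Subtype.val h
      refine QuotientGroup.eq.mpr ?_
      rw [← centralizer_z0, Subgroup.mem_centralizer_singleton_iff]
      calc g⁻¹ * g' * z0 = g⁻¹ * (g' * z0 * g'⁻¹) * g' := by group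
        _ = z0 * (g⁻¹ * g') := by rw [← h']; group
    · rintro ⟨d, hd⟩
      obtain ⟨g, hg⟩ := isConj_iff.mp hd
      exact ⟨(g : fi23Setup.G ⧸ Hs), Subtype.ext hg⟩
  rw [← Nat.card_congr (Equiv.ofBijective f hf)]
  exact Setup.Table.index S1689.table

theorem cover_centralizer {d : fi23Setup.G} (hd : d ∈ classD) :
    Cfsg.IsNonsplitDoubleCover (Subgroup.centralizer ({d} : Set fi23Setup.G)) fi22Setup.G := by
  obtain ⟨g, rfl⟩ := isConj_iff.mp hd
  have e : Hs.map (MulAut.conj g).toMonoidHom = Subgroup.centralizer {g * z0 * g⁻¹} := by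
    ext x
    rw [Subgroup.mem_map_equiv, ← centralizer_z0, Subgroup.mem_centralizer_singleton_iff,
      Subgroup.mem_centralizer_singleton_iff, MulAut.conj_symm_apply]
    constructor <;> intro h
    · calc x * (g * z0 * g⁻¹) = g * (g⁻¹ * x * g * z0) * g⁻¹ := by group
        _ = g * z0 * g⁻¹ * x := by rw [h]; group
    · calc g⁻¹ * x * g * z0 = g⁻¹ * (x * (g * z0 * g⁻¹)) * g := by group
        _ = z0 * (g⁻¹ * x * g) := by rw [h]; group
  exact Fi22U62.nonsplit_congr (((MulAut.conj g).subgroupMap Hs).trans (MulEquiv.subgroupCongr e))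
    isNonsplitDoubleCover

end Cfsg.Agent.Fi23Trans
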